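import Mathlib.AlgebraicGeometry.Morphisms.Flat
import Mathlib.AlgebraicGeometry.Morphisms.QuasiSeparated
import Mathlib.AlgebraicGeometry.Morphisms.QuasiCompact

/-!
# Bijectivity on sections survives flat base change

If `j : U ⟶ X` is qcqs and bijective on sections over affine opens (e.g. the inclusion of an open with
complement of depth two) then so is any flat base change of `j`, on all opens.
-/

set_option autoImplicit false
set_option backward.isDefEq.respectTransparency false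

universe u

open AlgebraicGeometry CategoryTheory TopologicalSpace Limits Opposite

namespace Groth.Agent.PurePair

lemma res_res {X : Scheme.{u}} {O O' O'' : X.Opens} (h : O'' ≤ O') (h' : O' ≤ O) (z : Γ(X, O)) :
    X.presheaf.map (homOfLE h).op (X.presheaf.map (homOfLE h').op z) =
      X.presheaf.map (homOfLE (h.trans h')).op z := by
  rw [← CommRingCat.comp_apply, ← Functor.map_comp, ← op_comp, homOfLE_comp]

lemma app_res {P Y : Scheme.{u}} (ι : P ⟶ Y) {O W : Y.Opens} (h : O ≤ W) (z : Γ(Y, W)) :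
    ι.app O (Y.presheaf.map (homOfLE h).op z) =
      P.presheaf.map (homOfLE (ι.preimage_mono h)).op (ι.app W z) :=
  ConcreteCategory.congr_hom (ι.naturality (homOfLE h).op) z

/-- A morphism bijective on sections over a basis is bijective on sections over all opens. -/
theorem bijective_app_of_basis {P Y : Scheme.{u}} (ι : P ⟶ Y) (B : Set Y.Opens)
    (hB : ∀ (W : Y.Opens), ∀ x ∈ W, ∃ O ∈ B, x ∈ O ∧ O ≤ W)
    (h : ∀ O ∈ B, Function.Bijective (ι.app O)) (W : Y.Opens) : Function.Bijective (ι.app W) := by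
  have hcov : ∀ W : Y.Opens, W ≤ ⨆ O : {O : Y.Opens // O ∈ B ∧ O ≤ W}, O.1 := fun W x hx => by
    obtain ⟨O, hO, hxO, hOW⟩ := hB W x hx
    exact Opens.mem_iSup.2 ⟨⟨O, hO, hOW⟩, hxO⟩
  have hinj : ∀ W : Y.Opens, Function.Injective (ι.app W) := fun W a b hab => by
    refine TopCat.Sheaf.eq_of_locally_eq' Y.sheaf
      (fun O : {O : Y.Opens // O ∈ B ∧ O ≤ W} => O.1) W (fun O => homOfLE O.2.2) (hcov W) a b
      fun O => (h O.1 O.2.1).1 ?_
    show ι.app O.1 (Y.presheaf.map (homOfLE O.2.2).op a) = ι.app O.1 (Y.presheaf.map (homOfLE O.2.2).op b)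
    rw [app_res, app_res, hab]
  refine ⟨hinj W, fun c => ?_⟩
  choose r hr using fun O : {O : Y.Opens // O ∈ B ∧ O ≤ W} =>
    (h O.1 O.2.1).2 (P.presheaf.map (homOfLE (ι.preimage_mono O.2.2)).op c)
  obtain ⟨s, hs, -⟩ := TopCat.Sheaf.existsUnique_gluing' Y.sheaf
    (fun O : {O : Y.Opens // O ∈ B ∧ O ≤ W} => O.1) W (fun O => homOfLE O.2.2) (hcov W) r fun O O' => by
      show Y.presheaf.map (homOfLE inf_le_left).op (r O) = Y.presheaf.map (homOfLE inf_le_right).op (r O')
      apply hinj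
      rw [app_res, app_res, hr, hr, res_res, res_res]
  refine ⟨(show Γ(Y, W) from s), ?_⟩
  refine TopCat.Sheaf.eq_of_locally_eq' P.sheaf
    (fun O : {O : Y.Opens // O ∈ B ∧ O ≤ W} => ι ⁻¹ᵁ O.1) (ι ⁻¹ᵁ W)
    (fun O => homOfLE (ι.preimage_mono O.2.2)) ?_ _ _ fun O => ?_
  · rw [← Scheme.Hom.preimage_iSup]
    exact ι.preimage_mono (hcov W)
  · show P.presheaf.map (homOfLE (ι.preimage_mono O.2.2)).op (ι.app W (show Γ(Y, W) from s)) =
      P.presheaf.map (homOfLE (ι.preimage_mono O.2.2)).op c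
    rw [← app_res ι O.2.2, ← hr O]
    exact congrArg (ι.app O.1) (hs O)

/-- Bijectivity of `j` on sections over affine opens gives bijectivity of every flat base change. -/
theorem bijective_app_of_flat_baseChange {X U Y P : Scheme.{u}} (g : Y ⟶ X) [Flat g] (j : U ⟶ X)
    [QuasiCompact j] [QuasiSeparated j]
    (hj : ∀ V : X.Opens, IsAffineOpen V → Function.Bijective (j.app V))
    {ι : P ⟶ Y} {u : P ⟶ U} (H : IsPullback ι u g j) (W : Y.Opens) :
    Function.Bijective (ι.app W) := by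
  refine bijective_app_of_basis ι
    {O | IsAffineOpen O ∧ ∃ V : X.Opens, IsAffineOpen V ∧ O ≤ g ⁻¹ᵁ V} (fun W x hx => ?_) ?_ W
  · obtain ⟨_, ⟨V, hV, rfl⟩, hxV, -⟩ :=
      X.isBasis_affineOpens.exists_subset_of_mem_open (Set.mem_univ (g x)) isOpen_univ
    obtain ⟨_, ⟨O, hO, rfl⟩, hxO, hle⟩ :=
      Y.isBasis_affineOpens.exists_subset_of_mem_open
        (show x ∈ W ⊓ g ⁻¹ᵁ V from ⟨hx, hxV⟩) (W ⊓ g ⁻¹ᵁ V).2
    exact ⟨O, ⟨hO, V, hV, fun y hy => (hle hy).2⟩, hxO, fun y hy => (hle hy).1⟩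
  rintro O ⟨hO, V, hV, hle⟩
  have hle' : ι ⁻¹ᵁ O ≤ u ⁻¹ᵁ j ⁻¹ᵁ V := by
    rw [← Scheme.Hom.comp_preimage, ← H.w, Scheme.Hom.comp_preimage]
    exact ι.preimage_mono hle
  have hpo := (isIso_pushoutSection_iff H.flip hle (le_refl (j ⁻¹ᵁ V)) (UY := ι ⁻¹ᵁ O)
      (inf_eq_right.2 hle').symm).1
    (isIso_pushoutSection_of_isQuasiSeparated_of_flat_right _ _ _ _ hV hO
      (j.isCompact_preimage hV.isCompact) (j.isQuasiSeparated_preimage hV.isQuasiSeparated))
  haveI : IsIso (j.appLE V (j ⁻¹ᵁ V) le_rfl) := by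
    rw [← j.app_eq_appLE]
    exact (ConcreteCategory.isIso_iff_bijective _).2 (hj V hV)
  have := hpo.flip.isIso_inl_of_isIso
  rw [← ι.app_eq_appLE] at this
  exact ConcreteCategory.bijective_of_isIso _

end Groth.Agent.PurePair
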