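import Groth.Agent.Purity.DepthRestrict

/-!
# An open immersion whose complement has depth two is bijective on sections over affine opens
-/

set_option autoImplicit false
set_option backward.isDefEq.respectTransparency false

universe u

open AlgebraicGeometry CategoryTheory TopologicalSpace Limits Opposite

namespace Groth.Agent.PurePair

variable {X U : Scheme.{u}} [IsLocallyNoetherian X] (j : U ⟶ X) [IsOpenImmersion j]

theorem bijective_app_of_depth
    (h : ∀ x : X, x ∉ Set.range j → (2 : ℕ∞) ≤ LocCoh.depth (X.presheaf.stalk x) (X.presheaf.stalk x))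
    (V : X.Opens) (hV : IsAffineOpen V) : Function.Bijective (j.app V) := by
  let O : X.Opens := j.opensRange
  have key := Purity.bijective_fst_app' (𝟙 X) (U := O) hV
    (Purity.exists_pair_chart_of_depth O (fun x hx => h x hx) V hV)
  have e₀ : j.isoOpensRange.hom ≫ O.ι = j := j.isoOpensRange_hom_ι
  let e : U ⟶ pullback (𝟙 X) O.ι := pullback.lift j j.isoOpensRange.hom
    (by rw [Category.comp_id, e₀])
  haveI : IsIso (pullback.snd (𝟙 X) O.ι) := inferInstance
  haveI : IsIso (e ≫ pullback.snd (𝟙 X) O.ι) := by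
    rw [pullback.lift_snd]
    infer_instance
  haveI : IsIso e := IsIso.of_isIso_comp_right e (pullback.snd (𝟙 X) O.ι)
  have he : e ≫ pullback.fst (𝟙 X) O.ι = j := pullback.lift_fst _ _ _
  rw [← he]
  haveI : IsIso ((pullback.fst (𝟙 X) O.ι).app V) := (ConcreteCategory.isIso_iff_bijective _).2 key
  exact ConcreteCategory.bijective_of_isIso
    ((pullback.fst (𝟙 X) O.ι).app V ≫ e.app (pullback.fst (𝟙 X) O.ι ⁻¹ᵁ V))

/-- The depth condition restricted to an open subscheme. -/
theorem bijective_homOfLE_app_of_depth (O : X.Opens)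
    (h : ∀ x : X, x ∉ O → (2 : ℕ∞) ≤ LocCoh.depth (X.presheaf.stalk x) (X.presheaf.stalk x))
    (V : X.Opens) (W : V.toScheme.Opens) (hW : IsAffineOpen W) :
    Function.Bijective ((X.homOfLE (inf_le_left : V ⊓ O ≤ V)).app W) := by
  refine bijective_app_of_depth _ (fun x hx => ?_) W hW
  haveI : IsNoetherianRing (X.presheaf.stalk x.1) := inferInstance
  rw [← Purity.depth_eq_of_ringEquiv (V.stalkIso x).commRingCatIsoToRingEquiv]
  refine h x.1 fun hxO => hx ⟨⟨x.1, x.2, hxO⟩, ?_⟩
  apply V.ι.isOpenEmbedding.injective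
  rw [← Scheme.Hom.comp_apply, Scheme.homOfLE_ι]
  rfl

end Groth.Agent.PurePair
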