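import Groth.Agent.PurePair.Descent
import Groth.Agent.PurePair.Depth
import Groth.Agent.Purity.SectionsBC
import Groth.Prelude.Def_SGA2

/-!
# Purity descends along fpqc morphisms
-/

set_option autoImplicit false
set_option backward.isDefEq.respectTransparency false

universe u

open CategoryTheory CategoryTheory.Limits AlgebraicGeometry TopologicalSpace

namespace Groth.Agent.PurePair

variable {X X₁ : Scheme.{u}}

theorem isPullback_preimage (f : X₁ ⟶ X) {V O : X.Opens} (h : O ≤ V) :
    IsPullback (X₁.homOfLE (f.preimage_mono h)) (f ∣_ O) (f ∣_ V) (X.homOfLE h) := by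
  refine IsPullback.of_right (h₁₂ := (f ⁻¹ᵁ V).ι) (h₂₂ := V.ι) (v₁₃ := f) ?_ ?_
    (isPullback_morphismRestrict f V).flip
  · rw [Scheme.homOfLE_ι, Scheme.homOfLE_ι]
    exact (isPullback_morphismRestrict f O).flip
  · rw [← cancel_mono V.ι, Category.assoc, Category.assoc, Scheme.homOfLE_ι, morphismRestrict_ι,
      morphismRestrict_ι, ← Category.assoc, Scheme.homOfLE_ι]

theorem essSurj_restrict_of_descent {V U W W' : Scheme.{u}} (j : U ⟶ V) [QuasiCompact j] [QuasiSeparated j]
    (hj : ∀ O : V.Opens, IsAffineOpen O → Function.Bijective (j.app O))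
    (j₁ : W' ⟶ W) (f' : W' ⟶ U) (fV : W ⟶ V) [Flat fV] [Surjective fV] [QuasiCompact fV]
    (sq : IsPullback j₁ f' fV j) [(FEt.restrict j₁).EssSurj] : (FEt.restrict j).EssSurj := by
  refine ⟨fun E => ?_⟩
  let E₁ := (FEt.restrict f').obj E
  let F := (FEt.restrict j₁).objPreimage E₁
  haveI : IsFinite F.hom := F.prop.1
  haveI : Etale F.hom := F.prop.2
  let ε : (FEt.restrict j₁).obj F ≅ E₁ := (FEt.restrict j₁).objObjPreimageIso E₁
  let η : pullback F.hom j₁ ≅ pullback E.hom f' :=
    { hom := ε.hom.left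
      inv := ε.inv.left
      hom_inv_id := congrArg (·.left) ε.hom_inv_id
      inv_hom_id := congrArg (·.left) ε.inv_hom_id }
  have hη : η.hom ≫ pullback.snd E.hom f' = pullback.snd F.hom j₁ := MorphismProperty.Over.w ε.hom
  let i := pullback.fst F.hom j₁
  let u := pullback.snd F.hom j₁ ≫ f'
  let a := η.hom ≫ pullback.fst E.hom f'
  have H₀ : IsPullback i u (F.hom ≫ fV) j := (IsPullback.of_hasPullback F.hom j₁).paste_vert sq
  have hae : a ≫ E.hom = u := by
    rw [Category.assoc, pullback.condition, reassoc_of% hη]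
  have H₁ : IsPullback a (i ≫ F.hom) (E.hom ≫ j) fV := by
    refine ((IsPullback.of_hasPullback E.hom f').paste_vert sq.flip).of_iso η.symm (Iso.refl _) (Iso.refl _)
      (Iso.refl _) ?_ ?_ ?_ ?_
    · simp [a]
    · simp only [Iso.refl_hom, Category.comp_id, Iso.symm_hom]
      rw [show i ≫ F.hom = η.hom ≫ pullback.snd E.hom f' ≫ j₁ from by
        rw [reassoc_of% hη]; exact pullback.condition, Iso.inv_hom_id_assoc]
    · simp
    · simp
  obtain ⟨G, γ, hfin, het, θ, hθ⟩ := exists_extension hj H₀ hae H₁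
  exact ⟨MorphismProperty.Over.mk ⊤ γ ⟨hfin, het⟩, ⟨MorphismProperty.Over.isoMk θ hθ⟩⟩

theorem isPurePair_of_fpqc [IsLocallyNoetherian X] (U : X.Opens)
    (hU : ∀ x : X, x ∉ U → (2 : ℕ∞) ≤ LocCoh.depth (X.presheaf.stalk x) (X.presheaf.stalk x))
    (f : X₁ ⟶ X) [Flat f] [Surjective f] [QuasiCompact f] (h : SGA2.IsPurePair X₁ (f ⁻¹ᵁ U)) :
    SGA2.IsPurePair X U := by
  intro V
  set j := X.homOfLE (inf_le_left : V ⊓ U ≤ V)
  have hj : ∀ O : V.toScheme.Opens, IsAffineOpen O → Function.Bijective (j.app O) :=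
    fun O hO => bijective_homOfLE_app_of_depth U hU V O hO
  obtain ⟨hfull, hfaith⟩ := Purity.restrict_full_faithful_of_app j hj
  haveI : (FEt.restrict (X₁.homOfLE (f.preimage_mono (inf_le_left : V ⊓ U ≤ V)))).IsEquivalence :=
    h (f ⁻¹ᵁ V)
  haveI : Flat (f ∣_ V) := MorphismProperty.of_isPullback (isPullback_morphismRestrict f V).flip ‹_›
  haveI : Surjective (f ∣_ V) := MorphismProperty.of_isPullback (isPullback_morphismRestrict f V).flip ‹_›
  haveI : QuasiCompact (f ∣_ V) := MorphismProperty.of_isPullback (isPullback_morphismRestrict f V).flip ‹_›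
  haveI : IsLocallyNoetherian V.toScheme := inferInstance
  haveI := essSurj_restrict_of_descent j hj _ _ _ (isPullback_preimage f (inf_le_left : V ⊓ U ≤ V))
  exact { faithful := hfaith, full := hfull, essSurj := inferInstance }

end Groth.Agent.PurePair
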